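import Mathlib
import Cfsg.Agent.Rec.HS.DataH
import Cfsg.Agent.Rec.HS.TG
import Cfsg.Agent.Spor.MX.LeechM
import Cfsg.Agent.Spor.MX.Glue

/-! Generated by tools/rec: twelve letters presenting the Higman-Sims group -/

set_option autoImplicit false
set_option maxRecDepth 100000
set_option linter.unusedVariables false
set_option exponentiation.threshold 100000

namespace Cfsg.Agent.Rec.HS

open Cfsg.Agent.Spor Cfsg.Agent.Rec

universe u

noncomputable def mws : LT :=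
(.node (.node (.node (.node (.leaf [(nat_lit 7), (nat_lit 0), (nat_lit 2), (nat_lit 1), (nat_lit 6)])
 (.leaf [(nat_lit 10), (nat_lit 2), (nat_lit 5), (nat_lit 4), (nat_lit 1), (nat_lit 5), (nat_lit 2), (nat_lit 0)])
) (.leaf [(nat_lit 11), (nat_lit 8), (nat_lit 2), (nat_lit 1), (nat_lit 8), (nat_lit 4), (nat_lit 2), (nat_lit 11)])
) (.node (.node (.leaf [(nat_lit 7), (nat_lit 4), (nat_lit 3), (nat_lit 4), (nat_lit 1), (nat_lit 6)])
 (.leaf [(nat_lit 10), (nat_lit 2), (nat_lit 10), (nat_lit 3), (nat_lit 6), (nat_lit 6), (nat_lit 2), (nat_lit 3), (nat_lit 9)])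
) (.leaf [(nat_lit 8), (nat_lit 6), (nat_lit 4), (nat_lit 2), (nat_lit 1), (nat_lit 5), (nat_lit 0)])
)) (.node (.node (.node (.leaf [(nat_lit 3), (nat_lit 7), (nat_lit 8), (nat_lit 4), (nat_lit 9), (nat_lit 6), (nat_lit 3)])
 (.leaf [(nat_lit 3), (nat_lit 4), (nat_lit 10), (nat_lit 9), (nat_lit 10), (nat_lit 4), (nat_lit 3)])
) (.leaf [(nat_lit 2), (nat_lit 11), (nat_lit 0), (nat_lit 4), (nat_lit 1), (nat_lit 10), (nat_lit 2)])
) (.node (.node (.leaf [(nat_lit 7), (nat_lit 8), (nat_lit 0), (nat_lit 7), (nat_lit 8), (nat_lit 0)])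
 (.leaf [(nat_lit 10), (nat_lit 3), (nat_lit 10), (nat_lit 10), (nat_lit 4), (nat_lit 11), (nat_lit 4)])
) (.leaf [(nat_lit 7), (nat_lit 10), (nat_lit 5), (nat_lit 2), (nat_lit 5), (nat_lit 11), (nat_lit 6)])
)))

noncomputable def mback : LT :=
(.node (.node (.node (.node (.leaf [(nat_lit 4), (nat_lit 7), (nat_lit 9), (nat_lit 11), (nat_lit 10), (nat_lit 8), (nat_lit 11), (nat_lit 10), (nat_lit 11), (nat_lit 8), (nat_lit 9), (nat_lit 11), (nat_lit 3)])
 (.leaf [(nat_lit 6), (nat_lit 11), (nat_lit 9), (nat_lit 11), (nat_lit 10), (nat_lit 11), (nat_lit 10), (nat_lit 2), (nat_lit 8), (nat_lit 10), (nat_lit 11), (nat_lit 10), (nat_lit 6), (nat_lit 11), (nat_lit 9)])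
) (.leaf [(nat_lit 2), (nat_lit 10), (nat_lit 8), (nat_lit 11), (nat_lit 10), (nat_lit 9), (nat_lit 11), (nat_lit 9), (nat_lit 10), (nat_lit 11), (nat_lit 8), (nat_lit 10), (nat_lit 2)])
) (.node (.node (.leaf [(nat_lit 9), (nat_lit 11), (nat_lit 10), (nat_lit 9), (nat_lit 11), (nat_lit 5), (nat_lit 9), (nat_lit 10), (nat_lit 6), (nat_lit 11), (nat_lit 10), (nat_lit 11), (nat_lit 9), (nat_lit 11), (nat_lit 10), (nat_lit 8)])
 (.leaf [(nat_lit 3), (nat_lit 10), (nat_lit 11), (nat_lit 9), (nat_lit 11), (nat_lit 5), (nat_lit 10), (nat_lit 11), (nat_lit 10), (nat_lit 8), (nat_lit 10), (nat_lit 11), (nat_lit 10), (nat_lit 5), (nat_lit 3)])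
) (.leaf [(nat_lit 10), (nat_lit 8), (nat_lit 11), (nat_lit 9), (nat_lit 11), (nat_lit 10), (nat_lit 11), (nat_lit 8), (nat_lit 10), (nat_lit 8), (nat_lit 4), (nat_lit 11), (nat_lit 6)])
)) (.node (.node (.node (.leaf [(nat_lit 3), (nat_lit 11), (nat_lit 9), (nat_lit 8), (nat_lit 11), (nat_lit 10), (nat_lit 11), (nat_lit 8), (nat_lit 10), (nat_lit 11), (nat_lit 9), (nat_lit 7), (nat_lit 4)])
 (.leaf [(nat_lit 9), (nat_lit 5), (nat_lit 10), (nat_lit 8), (nat_lit 4), (nat_lit 11), (nat_lit 9), (nat_lit 10), (nat_lit 11), (nat_lit 9), (nat_lit 5), (nat_lit 10), (nat_lit 5), (nat_lit 11), (nat_lit 8)])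
) (.leaf [(nat_lit 8), (nat_lit 4), (nat_lit 10), (nat_lit 9), (nat_lit 11), (nat_lit 10), (nat_lit 2), (nat_lit 11), (nat_lit 9), (nat_lit 5)])
) (.node (.node (.leaf [(nat_lit 0), (nat_lit 7), (nat_lit 8), (nat_lit 11), (nat_lit 9), (nat_lit 10), (nat_lit 11), (nat_lit 10), (nat_lit 8), (nat_lit 4), (nat_lit 9), (nat_lit 11), (nat_lit 9)])
 (.leaf [(nat_lit 3), (nat_lit 5), (nat_lit 10), (nat_lit 11), (nat_lit 10), (nat_lit 8), (nat_lit 7), (nat_lit 10), (nat_lit 11), (nat_lit 10), (nat_lit 11), (nat_lit 9), (nat_lit 11), (nat_lit 5), (nat_lit 10)])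
) (.leaf [(nat_lit 8), (nat_lit 11), (nat_lit 10), (nat_lit 5), (nat_lit 8), (nat_lit 11), (nat_lit 2), (nat_lit 9), (nat_lit 10), (nat_lit 11), (nat_lit 9), (nat_lit 5), (nat_lit 10)])
)))

theorem mback_ok : allLt 12 (MX.backB OutC.hs_T mws mback [4, 14, 79, 63, 99]) = true := by decide +kernel

theorem relG_ok : allL relG (fun w => band (lettersLt 12 w) (fixesL (MX.tabW OutC.hs_T mws) w [4, 14, 79, 63, 99])) = true := by
  decide +kernel

theorem tG_bd : Bound.{u} relG 11 12 5775 := fun _ _ _ _ hs hH =>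
  tG_bound (hs.hinv (by decide +kernel)) (hs.tree (by decide +kernel)) hH (leaf_nil_mem' _ _ (by decide +kernel))

theorem presG : Pres.{u} relG 12 44352000 := presH.step tG_bd (by decide +kernel)

end Cfsg.Agent.Rec.HS
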